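import Cfsg.Agent.Lib.Compute.Big.Suz.AutData
import Cfsg.Agent.Lib.Compute.Big.TwinFast

/-! Generated: checks of the automorphism certificate for Suz. -/

set_option autoImplicit false
set_option maxRecDepth 30000
set_option Elab.async false

namespace Cfsg.Agent.Lib.Compute.Big.Suz

theorem outPerm_ok : permCheck 12 1782 outPerm outPermInv = true := by decide +kernel

theorem conjWords_ok : ((List.range 7).all fun j =>
    conjWordOK 12 1782 19 letters outPerm outPermInv j (conjWords.getD j [])) = true := by decide +kernel

theorem conjWordsInv_ok : ((List.range 7).all fun j =>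
    conjWordOK 12 1782 19 letters outPermInv outPerm j (conjWordsInv.getD j [])) = true := by decide +kernel

theorem tri_img : ((Nat.beq (conjImg 12 1782 letters levels outPerm outPermInv suzAut.base.a) tri.a &&
      Nat.beq (conjImg 12 1782 letters levels outPerm outPermInv suzAut.base.b) tri.b) &&
      Nat.beq (conjImg 12 1782 letters levels outPerm outPermInv suzAut.base.c) tri.c) = true := by decide +kernel

theorem aut_c2 : chainCheck ops gens suzAut.chain2 = true :=
  (chainCheck_of_light coding gensOK (show chainLight ops gens suzAut.chain2 = true by decide +kernel)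
    ((card_genGroup_le _).trans (show 448345497600 ≤ chainSize suzAut.chain2 by decide +kernel))).1

theorem aut_gensOK : GensOK coding [suzAut.x1, suzAut.x2, suzAut.x3] := by
  have h : pairsEq [pathEval ops mainChain suzAut.path1, pathEval ops mainChain suzAut.path2,
      pathEval ops mainChain suzAut.path3] [suzAut.x1, suzAut.x2, suzAut.x3] = true := by decide +kernel
  intro q hq
  rw [← pairsEq_eq h] at hq
  simp only [List.mem_cons, List.not_mem_nil, or_false] at hq
  rcases hq with rfl | rfl | rfl <;>
    exact PairOK.mono _ le_top (pairOK_pathEval coding gensOK mainChain_ok _)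

theorem aut_gen : chainCheck ops [suzAut.x1, suzAut.x2, suzAut.x3] suzAut.genChain = true :=
  (chainCheck_of_light coding aut_gensOK
    (show chainLight ops [suzAut.x1, suzAut.x2, suzAut.x3] suzAut.genChain = true by decide +kernel)
    ((card_genGroup_le _).trans (show 448345497600 ≤ chainSize suzAut.genChain by decide +kernel))).1

theorem aut_head : autHead ops gens mainChain suzAut = true := by
  simp only [autHead, aut_c2, aut_gen, Bool.and_true, Bool.and_eq_true]
  and_intros <;> decide +kernel

theorem tri_outer : outerCheck ops suzAut tri = true := by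
  rw [outerCheck, twinsFast_eq coding gensOK aut_c2 (by decide +kernel)]
  decide +kernel

theorem aut_orb : ((twins ops suzAut.x1.1 (powC ops suzAut.x1.1 suzAut.m) suzAut.chain2).all fun y =>
    inOrbit ops suzAut.x1 (suzAut.cases.getD 0 ⟨0, 0, [], []⟩).y suzAut.p y) = true := by
  rw [twinsFast_eq coding gensOK aut_c2 (by decide +kernel)]
  decide +kernel

theorem aut_c3 : chainCheck ops gens (suzAut.cases.getD 0 ⟨0, 0, [], []⟩).chain3 = true :=
  (chainCheck_of_light coding gensOK (show chainLight ops gens (suzAut.cases.getD 0 ⟨0, 0, [], []⟩).chain3 = true by decide +kernel)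
    ((card_genGroup_le _).trans (show 448345497600 ≤ chainSize (suzAut.cases.getD 0 ⟨0, 0, [], []⟩).chain3 by decide +kernel))).1

theorem aut_Z : twins ops (suzAut.cases.getD 0 ⟨0, 0, [], []⟩).y (powC ops (suzAut.cases.getD 0 ⟨0, 0, [], []⟩).y suzAut.l) (suzAut.cases.getD 0 ⟨0, 0, [], []⟩).chain3 = suzAutZ := by
  rw [twinsFast_eq coding gensOK aut_c3 (by decide +kernel)]
  decide +kernel

end Cfsg.Agent.Lib.Compute.Big.Suz
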