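import Cfsg.Agent.Lib.Compute.Big.Model
import Cfsg.Agent.Lib.Compute.Big.Suz.Data
import Cfsg.Agent.S1694

/-! Generated: Suz as a group of permutations of 1782 points, coded by base images. -/

set_option autoImplicit false
set_option maxRecDepth 30000
set_option Elab.async false

namespace Cfsg.Agent.Lib.Compute.Big.Suz

open Cfsg.Agent.Lib.CosetTable

theorem tab_ok : (List.range 7).all (tabOK 12 letters Suz1782.tab) = true := by decide +kernel

theorem perms_ok : ((List.range 19).all fun j => Nat.blt j 7 ||
    invOK 12 1782 letters j) = true := by decide +kernel

theorem defs_ok : ((List.range 19).all fun j => Nat.blt j 7 ||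
    defOK 12 1782 letters j (defs.getD (j - 7) [])) = true := by decide +kernel

theorem levels_ok : levelsOK 12 1782 19 letters [] levels = true := by decide +kernel

theorem levels_size : levelsSize levels = 448345497600 := by decide +kernel

theorem exists_phi : ∃ φ : Cfsg.Spor.Suz →* Equiv.Perm (Fin Suz1782.tab.n),
    ∀ g, g < Suz1782.cert.k → φ (S1694.gn g) = S1680.certified.checked.perm g :=
  Pres.exists_action S1680.certified.good S1680.certified.extra_eq S1680.certified.k_eq
    S1680.certified.rels_eq S1680.certified.words S1680.certified.checked

/-- The action on cosets. -/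
noncomputable def phi : Cfsg.Spor.Suz →* Equiv.Perm (Fin Suz1782.tab.n) := exists_phi.choose

theorem phi_spec : ∀ g, g < Suz1782.cert.k → phi (S1694.gn g) = S1680.certified.checked.perm g :=
  exists_phi.choose_spec

theorem phi_injective : Function.Injective phi := by
  have : IsSimpleGroup Cfsg.Spor.Suz := S1694.result.1
  exact injective_of_isSimple S1680.certified.checked phi_spec (g := 0) (i := 2)
    (by decide +kernel) (by decide +kernel) (by decide +kernel)

theorem finite_suz : Finite Cfsg.Spor.Suz := S1694.order_le.1

theorem card_range : Nat.card phi.range = 448345497600 := by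
  have := finite_suz
  rw [card_range_eq phi_injective, S1694.result.2]

theorem letters_ok : LettersOK 12 letters 19 phi.range := by
  have hk : LettersOK 12 letters 7 phi.range :=
    lettersOK_of_tab S1680.certified.checked phi_spec (le_of_eq rfl) tab_ok
  refine lettersOK_of_defs hk (fun j hj hjm => ?_) defs (fun j hj hjm => ?_)
  · have h := List.all_eq_true.1 perms_ok j (List.mem_range.2 hjm)
    rw [Bool.or_eq_true] at h
    exact h.resolve_left (by simp [Nat.blt_eq]; omega)
  · have h := List.all_eq_true.1 defs_ok j (List.mem_range.2 hjm)
    rw [Bool.or_eq_true] at h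
    exact h.resolve_left (by simp [Nat.blt_eq]; omega)

theorem baseCert : BaseCert 12 Suz1782.tab.n letters levels phi.range where
  le_pow := by decide +kernel
  pos := by decide +kernel
  word := ⟨19, letters_ok, levels_ok⟩
  card := card_range.trans levels_size.symm

/-- The operations on codes. -/
noncomputable abbrev ops : Ops := baseOps 12 1782 letters levels

/-- The coding of the image. -/
noncomputable abbrev coding : Coding phi.range ops := baseCoding baseCert

/-- Codes of the seven or nine generators with their inverses. -/
def gens : List (ℕ × ℕ) := [(0x1800000c007003, 0x1800000c007003), (0xe000008004001, 0xe000008004001), (0x1a00000d002004, 0x1a00000d002004), (0xe000004008002, 0xe000004008002), (0x800000e004002, 0x800000e004002), (0x1c00000f009005, 0x1c00000f009005), (0xe001008004002, 0xe001008004002)]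

theorem gens_eq : modelGens 12 letters levels 7 = gens := by decide +kernel

theorem gensOK : GensOK coding gens :=
  gens_eq ▸ gensOK_modelGens baseCert fun j hj => letters_ok j (hj.trans (by norm_num))

theorem genGroup_eq_top : genGroup coding gens = ⊤ := by
  rw [← gens_eq]
  exact genGroup_modelGens S1680.certified.checked S1694.model_act.gen phi_spec tab_ok baseCert

/-- Suz is the coded group. -/
noncomputable def modelEquiv : Cfsg.Spor.Suz ≃* genGroup coding gens :=
  (MonoidHom.ofInjective phi_injective).trans
    (Subgroup.topEquiv.symm.trans (MulEquiv.subgroupCongr genGroup_eq_top.symm))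

theorem card_genGroup_le (S : List (ℕ × ℕ)) : Nat.card (genGroup coding S) ≤ 448345497600 :=
  (Subgroup.card_le_card_group _).trans card_range.le

end Cfsg.Agent.Lib.Compute.Big.Suz
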