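import Cfsg.Agent.Lib.Compute.Big.Suz.AutChecks
import Cfsg.Agent.Lib.Compute.Big.Parts

/-! Generated: the outer automorphism group of Suz has order two. -/

set_option autoImplicit false
set_option maxRecDepth 30000
set_option Elab.async false

namespace Cfsg.Agent.Lib.Compute.Big.Suz

theorem aut_part0 : casePartO ops mainChain suzAut [suzAut.base, tri]
    (suzAut.cases.getD 0 ⟨0, 0, [], []⟩) suzAutZ = true := by decide +kernel

theorem aut_part1 : casePartO ops mainChain suzAut [suzAut.base, tri]
    (suzAut.cases.getD 1 ⟨0, 0, [], []⟩) suzAutZ = true := by decide +kernel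

theorem aut_part2 : casePartO ops mainChain suzAut [suzAut.base, tri]
    (suzAut.cases.getD 2 ⟨0, 0, [], []⟩) suzAutZ = true := by decide +kernel

theorem aut_part3 : casePartO ops mainChain suzAut [suzAut.base, tri]
    (suzAut.cases.getD 3 ⟨0, 0, [], []⟩) suzAutZ = true := by decide +kernel

theorem aut_part4 : casePartO ops mainChain suzAut [suzAut.base, tri]
    (suzAut.cases.getD 4 ⟨0, 0, [], []⟩) suzAutZ = true := by decide +kernel

theorem aut_part5 : casePartO ops mainChain suzAut [suzAut.base, tri]
    (suzAut.cases.getD 5 ⟨0, 0, [], []⟩) suzAutZ = true := by decide +kernel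

theorem aut_part6 : casePartO ops mainChain suzAut [suzAut.base, tri]
    (suzAut.cases.getD 6 ⟨0, 0, [], []⟩) suzAutZ = true := by decide +kernel

theorem aut_part7 : casePartO ops mainChain suzAut [suzAut.base, tri]
    (suzAut.cases.getD 7 ⟨0, 0, [], []⟩) suzAutZ = true := by decide +kernel

theorem aut_part8 : casePartO ops mainChain suzAut [suzAut.base, tri]
    (suzAut.cases.getD 8 ⟨0, 0, [], []⟩) suzAutZ = true := by decide +kernel

theorem aut_part9 : casePartO ops mainChain suzAut [suzAut.base, tri]
    (suzAut.cases.getD 9 ⟨0, 0, [], []⟩) suzAutZ = true := by decide +kernel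

theorem aut_part10 : casePartO ops mainChain suzAut [suzAut.base, tri]
    (suzAut.cases.getD 10 ⟨0, 0, [], []⟩) suzAutZ = true := by decide +kernel

theorem aut_part11 : casePartO ops mainChain suzAut [suzAut.base, tri]
    (suzAut.cases.getD 11 ⟨0, 0, [], []⟩) suzAutZ = true := by decide +kernel


theorem aut_parts : (suzAut.cases.all fun cs => casePartO ops mainChain suzAut [suzAut.base, tri] cs suzAutZ) = true := by
  refine List.all_eq_true.2 fun cs h => ?_
  simp only [suzAut, List.mem_cons, List.not_mem_nil, or_false] at h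
  rcases h with rfl | rfl | rfl | rfl | rfl | rfl | rfl | rfl | rfl | rfl | rfl | rfl
  · exact aut_part0
  · exact aut_part1
  · exact aut_part2
  · exact aut_part3
  · exact aut_part4
  · exact aut_part5
  · exact aut_part6
  · exact aut_part7
  · exact aut_part8
  · exact aut_part9
  · exact aut_part10
  · exact aut_part11


theorem aut_same : ∀ cs ∈ suzAut.cases, cs.y = (suzAut.cases.getD 0 ⟨0, 0, [], []⟩).y ∧ cs.chain3 = (suzAut.cases.getD 0 ⟨0, 0, [], []⟩).chain3 := by
  simp [suzAut, List.getD]

theorem aut_ok : autCheck ops gens mainChain suzAut [suzAut.base, tri] = true := by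
  refine autCheck_of_parts aut_head fun cs h => ?_
  obtain ⟨hy, hc⟩ := aut_same cs h
  refine caseCheck_of_parts_ops (Z := suzAutZ) ?_ ?_ ?_ (List.all_eq_true.1 aut_parts cs h)
  · rw [hy]; exact aut_orb
  · rw [hc]; exact aut_c3
  · rw [hy, hc]; exact aut_Z

theorem card_out : Nat.card (Cfsg.Out Cfsg.Spor.Suz) = 2 := by
  have := finite_suz
  rw [card_out_congr modelEquiv]
  exact card_out_eq_two_of_perm baseCert gensOK genGroup_eq_top (k := 7) (m := 19)
    (by norm_num) letters_ok (show genGroup coding (modelGens 12 letters levels 7) = ⊤ by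
      rw [gens_eq]; exact genGroup_eq_top) mainChain_ok aut_ok tri_outer outPerm_ok conjWords
    conjWordsInv conjWords_ok conjWordsInv_ok tri_img

end Cfsg.Agent.Lib.Compute.Big.Suz
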